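import Mathlib
import Cfsg.Agent.S4417

/-!
Derived length of linear p-groups: in characteristic different from p the orbits of the eigencharacters
of a maximal abelian normal subgroup bound it, in characteristic p a stable filtration does.
-/

set_option autoImplicit false

namespace CfsgLib.DerivedLen

open scoped commutatorElement
open Matrix

/-- A p-group of matrices over an algebraically closed field of characteristic not p. -/
theorem cross_char {K : Type*} [Field K] [IsAlgClosed K] {P : Type*} [Group P] [Finite P] {p : ℕ}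
    [hp : Fact p.Prime] (hP : IsPGroup p P) (n : ℕ) (ρ : P →* Matrix (Fin n) (Fin n) K)
    (hρi : Function.Injective ρ) (hpK : (p : K) ≠ 0) : derivedSeries P (Nat.log p n + 1) = ⊥ := by
  classical
  -- maximal normal abelian subgroup
  obtain ⟨A, ⟨hAn, hAc⟩, hmax⟩ := Set.Finite.exists_maximal
    (s := {A : Subgroup P | A.Normal ∧ IsMulCommutative A}) (Set.toFinite _)
    ⟨⊥, inferInstance, inferInstance⟩
  have hCA : Subgroup.centralizer (A : Set P) = A :=
    CfsgLib.PGroup.centralizer_eq_of_maximal_normal_abelian hP A hAc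
      fun B hBn hBc hAB => le_antisymm (hmax ⟨hBn, hBc⟩ hAB) hAB
  have hcommA : ∀ a b : A, ρ a * ρ b = ρ b * ρ a := by
    intro a b
    rw [← map_mul, ← map_mul]
    exact congrArg (fun x : A => ρ x) (hAc.is_comm.comm a b)
  -- eigencharacters
  let Ω : Set (A → K) := {χ | ∃ v : Fin n → K, v ≠ 0 ∧ ∀ a : A, ρ a *ᵥ v = χ a • v}
  have hbound : ∀ (ι : Type _) [Fintype ι] (f : ι → A → K), (∀ i, f i ∈ Ω) → Function.Injective f →
      Fintype.card ι ≤ n := by
    intro ι _ f hf hinj
    choose v hv0 hv using hf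
    exact CfsgLib.CrossChar.card_le_of_distinct_eigen (fun a : A => ρ a) f v hv0 hv hinj
  have hfinΩ : Ω.Finite := by
    by_contra hinf
    obtain ⟨s, hs, hsc⟩ := Set.Infinite.exists_subset_card_eq hinf (n + 1)
    have h := hbound ↥s (fun i => i.1) (fun i => hs i.2) Subtype.val_injective
    simp [hsc] at h
  have := hfinΩ.fintype
  -- conjugation action
  let cA : P → A → A := fun g a => ⟨g⁻¹ * a.1 * g, by simpa using hAn.conj_mem a.1 a.2 g⁻¹⟩
  have hcA : ∀ g h a, cA h (cA g a) = cA (g * h) a := by
    intro g h a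
    apply Subtype.ext
    simp [cA, mul_assoc]
  have hmem : ∀ (g : P) (χ : A → K), χ ∈ Ω → (fun a => χ (cA g a)) ∈ Ω := by
    rintro g χ ⟨v, hv0, hv⟩
    refine ⟨ρ g *ᵥ v, fun h => hv0 ?_, fun a => ?_⟩
    · have h1 := congrArg (fun w => ρ g⁻¹ *ᵥ w) h
      rw [Matrix.mulVec_mulVec, ← map_mul, inv_mul_cancel, map_one, Matrix.one_mulVec,
        Matrix.mulVec_zero] at h1
      exact h1
    · show _ = χ (cA g a) • _
      rw [Matrix.mulVec_mulVec, ← map_mul,
        show (a : P) * g = g * (cA g a : P) by simp [cA, mul_assoc], map_mul,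
        ← Matrix.mulVec_mulVec, hv, Matrix.mulVec_smul]
  let _ : MulAction P Ω :=
    { smul := fun g χ => ⟨fun a => χ.1 (cA g a), hmem g χ.1 χ.2⟩
      one_smul := fun χ => Subtype.ext (funext fun a => by
        show χ.1 (cA 1 a) = χ.1 a
        simp [cA])
      mul_smul := fun g h χ => Subtype.ext (funext fun a => by
        show χ.1 (cA (g * h) a) = χ.1 (cA h (cA g a))
        rw [hcA]) }
  have hsmul : ∀ (g : P) (χ : Ω) (a : A), (g • χ).1 a = χ.1 (cA g a) := fun _ _ _ => rfl
  -- the characters are multiplicative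
  have hχone : ∀ χ : Ω, χ.1 1 = 1 := by
    intro χ
    obtain ⟨v, hv0, hv⟩ := χ.2
    apply smul_left_injective K hv0
    show χ.1 1 • v = (1 : K) • v
    rw [← hv]
    simp
  have hχmul : ∀ (χ : Ω) (a b : A), χ.1 (a * b) = χ.1 a * χ.1 b := by
    intro χ a b
    obtain ⟨v, hv0, hv⟩ := χ.2
    apply smul_left_injective K hv0
    show χ.1 (a * b) • v = (χ.1 a * χ.1 b) • v
    rw [← hv, Subgroup.coe_mul, map_mul, ← Matrix.mulVec_mulVec, hv, Matrix.mulVec_smul, hv,
      smul_smul, mul_comm]
  have hχpow : ∀ (χ : Ω) (a : A) (k : ℕ), χ.1 (a ^ k) = χ.1 a ^ k := by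
    intro χ a k
    induction k with
    | zero => simp [hχone]
    | succ k ih => rw [pow_succ, hχmul, ih, pow_succ]
  -- every orbit is small
  have horb : ∀ χ : Ω, ∃ m, (MulAction.stabilizer P χ).index = p ^ m ∧ m ≤ Nat.log p n := by
    intro χ
    obtain ⟨m, hm⟩ := hP.index (MulAction.stabilizer P χ)
    refine ⟨m, hm, Nat.le_log_of_pow_le hp.out.one_lt ?_⟩
    have h1 := hbound (MulAction.orbit P χ) (fun x => x.1.1) (fun x => x.1.2)
      (fun x y h => Subtype.ext (Subtype.ext h))
    rwa [← Nat.card_eq_fintype_card, Nat.card_coe_set_eq, ← MulAction.index_stabilizer, hm] at h1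
  -- intersection of the stabilisers
  have hker : ∀ g : P, (∀ χ : Ω, g • χ = χ) → g ∈ A := by
    intro g hg
    rw [← hCA, Subgroup.mem_centralizer_iff]
    intro a ha
    set a' : A := ⟨a, ha⟩
    set c : A := a'⁻¹ * cA g a' with hc
    have hone : ρ c = 1 := by
      obtain ⟨k, hk⟩ := hP c.1
      have heig := Cfsg.Agent.S4417.eq_one_of_eigen (Matrix.toLinAlgEquiv' (ρ c)) (p ^ k)
        (by rw [Nat.cast_pow]; exact pow_ne_zero _ hpK)
        (by rw [← map_pow, ← map_pow, hk, map_one, map_one]) ?_
      · exact Matrix.toLinAlgEquiv'.injective (by rw [heig, map_one])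
      intro μ hμ
      obtain ⟨v, hvW, hv0, hv⟩ := CfsgLib.CrossChar.exists_common_eigen
        (fun b : A => Matrix.toLinAlgEquiv' (ρ b))
        (fun b b' => by
          rw [← map_mul Matrix.toLinAlgEquiv', hcommA b b', map_mul]) _
        (Module.End.eigenspace (Matrix.toLinAlgEquiv' (ρ c)) μ) rfl hμ
        (fun b x hx => by
          rw [Module.End.mem_eigenspace_iff] at hx ⊢
          rw [← Module.End.mul_apply, ← map_mul Matrix.toLinAlgEquiv', hcommA, map_mul,
            Module.End.mul_apply, hx, map_smul])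
      choose ν hν using hv
      have hνv : ∀ b : A, ρ b *ᵥ v = ν b • v := fun b => by simpa using hν b
      have h2 := hg ⟨ν, v, hv0, hνv⟩
      have h3 : ν (cA g a') = ν a' := congrFun (congrArg Subtype.val h2) a'
      have h4 : ν c = 1 := by
        have hm := hχmul ⟨ν, v, hv0, hνv⟩ a' c
        simp only [hc, mul_inv_cancel_left] at hm
        rw [h3] at hm
        have hne : ν a' ≠ 0 := fun h0 => by
          have hm1 := hχmul ⟨ν, v, hv0, hνv⟩ a' a'⁻¹
          simp only [mul_inv_cancel, h0, zero_mul] at hm1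
          exact zero_ne_one (hm1.symm.trans (hχone ⟨ν, v, hv0, hνv⟩))
        exact (mul_eq_left₀ hne).1 hm.symm
      rw [Module.End.mem_eigenspace_iff, hν, h4] at hvW
      exact (smul_left_injective K hv0 hvW).symm
    have hc1 : (c : P) = 1 := hρi (by rw [hone, map_one])
    have h5 : (a'⁻¹ : A).1 * (g⁻¹ * a * g) = 1 := hc1
    have h6 : a⁻¹ * (g⁻¹ * a * g) = 1 := h5
    rw [inv_mul_eq_one] at h6
    calc a * g = g * (g⁻¹ * a * g) := by group
      _ = g * a := by rw [← h6]
  -- conclusion
  have hL : derivedSeries P (Nat.log p n) ≤ A := by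
    intro g hg
    apply hker
    intro χ
    obtain ⟨m, hm, hmL⟩ := horb χ
    exact MulAction.mem_stabilizer_iff.1
      (Cfsg.Agent.S4417.derivedSeries_le_of_index hP m _ hm (derivedSeries_antitone P hmL hg))
  rw [derivedSeries_succ, eq_bot_iff]
  refine le_trans (Subgroup.commutator_mono hL hL) ?_
  rw [← eq_bot_iff, Subgroup.commutator_eq_bot_iff_le_centralizer, hCA]


section Unipotent

variable {F : Type*} [Field F] {V : Type*} [AddCommGroup V] [Module F V] {P : Type*} [Group P]
  [Finite P] {p : ℕ} [hp : Fact p.Prime]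

/-- In characteristic p a p-group fixes something outside a proper invariant subspace, modulo it. -/
theorem exists_fixed_mod (hP : IsPGroup p P) (hpF : (p : F) = 0) (ρ : P →* Module.End F V)
    (W : Submodule F V) (hW : ∀ g : P, ∀ w ∈ W, ρ g w ∈ W) (hne : W ≠ ⊤) :
    ∃ v, v ∉ W ∧ ∀ g : P, ρ g v - v ∈ W := by
  classical
  obtain ⟨v₀, hv₀⟩ : ∃ v, v ∉ W := not_forall.1 fun h => hne (Submodule.eq_top_iff'.2 h)
  haveI : Nontrivial V := ⟨⟨v₀, 0, fun h => hv₀ (h ▸ W.zero_mem)⟩⟩
  haveI : CharP F p := by
    obtain ⟨c, hc⟩ := CharP.exists F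
    rcases (Nat.dvd_prime hp.out).1 ((CharP.cast_eq_zero_iff F c p).1 hpF) with rfl | rfl
    · exact absurd rfl (CharP.char_ne_one F 1)
    · exact hc
  haveI : CharP (Module.End F V) p :=
    charP_of_injective_algebraMap (FaithfulSMul.algebraMap_injective F (Module.End F V)) p
  suffices h : ∀ (k : ℕ) (H : Subgroup P), Nat.card H = p ^ k →
      ∃ v, v ∉ W ∧ ∀ g ∈ H, ρ g v - v ∈ W by
    obtain ⟨k, hk⟩ := hP.exists_card_eq
    obtain ⟨v, h1, h2⟩ := h k ⊤ (by rw [Subgroup.card_top, hk])
    exact ⟨v, h1, fun g => h2 g (Subgroup.mem_top g)⟩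
  intro k
  induction k with
  | zero =>
    intro H hH
    rw [pow_zero, Subgroup.card_eq_one] at hH
    exact ⟨v₀, hv₀, fun g hg => by simp [Subgroup.mem_bot.1 (hH ▸ hg)]⟩
  | succ k ih =>
    intro H hH
    obtain ⟨M, hM⟩ := Sylow.exists_subgroup_card_pow_prime p (G := H) (n := k)
      (hH ▸ pow_dvd_pow p k.le_succ)
    have hMi : M.index = p := by
      have h := M.card_mul_index
      rw [hM, hH, pow_succ] at h
      exact Nat.eq_of_mul_eq_mul_left (pow_pos hp.out.pos k) h
    have hMn : M.Normal := Subgroup.normal_of_index_eq_minFac_card (by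
      rw [hMi, hH, Nat.pow_minFac k.succ_ne_zero, hp.out.minFac_eq])
    obtain ⟨g, hgM⟩ : ∃ g : H, g ∉ M := not_forall.1 fun h => by
      have : M.index = 1 := Subgroup.index_eq_one.2 ((Subgroup.eq_top_iff' M).2 h)
      exact hp.out.ne_one (hMi ▸ this)
    obtain ⟨v, hv, hvM⟩ := ih (M.map H.subtype)
      (by rw [Subgroup.card_map_of_injective H.subtype_injective, hM])
    set D : Module.End F V := ρ g - 1 with hD
    have hDv : ∀ i, ∀ m ∈ M, ρ (m : P) ((D ^ i) v) - (D ^ i) v ∈ W := by
      intro i
      induction i with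
      | zero => intro m hm; simpa using hvM _ ⟨m, hm, rfl⟩
      | succ i hi =>
        intro m hm
        set u := (D ^ i) v
        have hu : (D ^ (i + 1)) v = ρ g u - u := by rw [pow_succ']; simp [hD, u]
        have h1 := hi (g⁻¹ * m * g) (by
          simpa using hMn.conj_mem m hm g⁻¹)
        have h2 := hW (g : P) _ h1
        rw [map_sub, ← Module.End.mul_apply, ← map_mul] at h2
        have e : (g : P) * ((g⁻¹ * m * g : H) : P) = (m : P) * g := by push_cast; group
        rw [e, map_mul, Module.End.mul_apply] at h2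
        rw [hu, map_sub, sub_sub_sub_comm]
        exact W.sub_mem h2 (hi m hm)
    have hDp : (D ^ p) v ∈ W := by
      rw [hD, sub_pow_char_of_commute p (Commute.one_right _), one_pow, ← map_pow]
      have h : g ^ p ∈ M := hMi ▸ M.pow_index_mem g
      simpa using hvM _ ⟨g ^ p, h, rfl⟩
    have hex : ∃ i, (D ^ i) v ∈ W := ⟨p, hDp⟩
    obtain ⟨i, hi⟩ : ∃ i, Nat.find hex = i + 1 := Nat.exists_eq_succ_of_ne_zero fun h => by
      have := Nat.find_spec hex
      rw [h] at this
      exact hv (by simpa using this)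
    refine ⟨(D ^ i) v, Nat.find_min hex (by omega), ?_⟩
    have hgu : ρ (g : P) ((D ^ i) v) - (D ^ i) v ∈ W := by
      have := Nat.find_spec hex
      rw [hi, pow_succ', Module.End.mul_apply] at this
      simpa [hD] using this
    let S : Subgroup H :=
      { carrier := {x | ρ (x : P) ((D ^ i) v) - (D ^ i) v ∈ W}
        one_mem' := by simp
        mul_mem' := fun {a b} ha hb => by
          have h1 := W.add_mem (hW (a : P) _ hb) ha
          show ρ ((a * b : H) : P) _ - _ ∈ W
          rw [Subgroup.coe_mul, map_mul, Module.End.mul_apply]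
          rwa [map_sub, sub_add_sub_cancel] at h1
        inv_mem' := fun {a} ha => by
          have h1 := W.neg_mem (hW ((a : P)⁻¹) _ ha)
          show ρ ((a⁻¹ : H) : P) _ - _ ∈ W
          rw [map_sub, ← Module.End.mul_apply, ← map_mul, inv_mul_cancel, map_one,
            Module.End.one_apply, neg_sub] at h1
          simpa using h1 }
    have hMS : M ≤ S := fun m hm => hDv i m hm
    have hS : S = ⊤ := by
      have h1 := Subgroup.index_dvd_of_le hMS
      rw [hMi] at h1
      rcases (Nat.dvd_prime hp.out).1 h1 with h | h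
      · exact Subgroup.index_eq_one.1 h
      · exfalso
        have h2 := Subgroup.relIndex_mul_index hMS
        rw [h, hMi] at h2
        have h3 : S ≤ M := Subgroup.relIndex_eq_one.1
          (Nat.eq_of_mul_eq_mul_right hp.out.pos (by rw [h2, one_mul]))
        exact hgM (h3 hgu)
    exact fun x hx => (hS ▸ Subgroup.mem_top (⟨x, hx⟩ : H) : (⟨x, hx⟩ : H) ∈ S)

/-- A p-group acting faithfully in characteristic p has derived length at most `⌊log₂ n⌋ + 1`. -/
theorem same_char [FiniteDimensional F V] (hP : IsPGroup p P) (hpF : (p : F) = 0)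
    (ρ : P →* Module.End F V) (hρ : Function.Injective ρ) :
    derivedSeries P (Nat.log 2 (Module.finrank F V) + 1) = ⊥ := by
  let next : Submodule F V → Submodule F V := fun W => ⨅ g : P, W.comap (ρ g - 1)
  have hnext : ∀ W v, v ∈ next W ↔ ∀ g : P, ρ g v - v ∈ W := by
    intro W v; simp [next, Submodule.mem_iInf]
  let Z : ℕ → Submodule F V := fun j => next^[j] ⊥
  have hZ : ∀ j, Z (j + 1) = next (Z j) := fun j => Function.iterate_succ_apply' next j ⊥
  have hmono : ∀ j, Z j ≤ Z (j + 1) ∧ ∀ g : P, ∀ v ∈ Z j, ρ g v ∈ Z j := by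
    intro j
    induction j with
    | zero =>
      refine ⟨bot_le, fun g v hv => ?_⟩
      rw [(Submodule.mem_bot F).1 hv, map_zero]
      exact (Z 0).zero_mem
    | succ j ih =>
      refine ⟨fun v hv => ?_, fun g v hv => ?_⟩
      · rw [hZ (j + 1), hnext]
        intro g
        have hh := hv
        rw [hZ j, hnext] at hh
        exact ih.1 (hh g)
      · have hh := hv
        rw [hZ j, hnext] at hh
        have := (Z (j + 1)).add_mem (ih.1 (hh g)) hv
        rwa [sub_add_cancel] at this
  have hrank : ∀ j, j ≤ Module.finrank F (Z j) ∨ Z j = ⊤ := by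
    intro j
    induction j with
    | zero => exact Or.inl (Nat.zero_le _)
    | succ j ih =>
      by_cases ht : Z j = ⊤
      · exact Or.inr (top_le_iff.1 (ht ▸ (hmono j).1))
      rcases ih with h | h
      · obtain ⟨v, hv, hv'⟩ := exists_fixed_mod hP hpF ρ (Z j) (hmono j).2 ht
        have hlt : Z j < Z (j + 1) := lt_of_le_of_ne (hmono j).1 fun e => hv (by
          rw [e, hZ j, hnext]; exact hv')
        have := Submodule.finrank_lt_finrank_of_lt hlt
        exact Or.inl (by omega)
      · exact absurd h ht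
  set n := Module.finrank F V
  have htop : ∀ j, n ≤ j → Z j = ⊤ := by
    intro j hj
    refine (hrank j).elim (fun h => Submodule.eq_top_of_finrank_eq ?_) id
    exact le_antisymm (Submodule.finrank_le _) (hj.trans h)
  let T : ℕ → Subgroup P := fun k =>
    { carrier := {g | ∀ j, ∀ v ∈ Z (j + k), ρ g v - v ∈ Z j}
      one_mem' := fun j v _ => by simp
      mul_mem' := fun {a b} ha hb j v hv => by
        have h1 := (Z j).add_mem ((hmono j).2 a _ (hb j v hv)) (ha j v hv)
        rw [map_mul, Module.End.mul_apply]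
        rwa [map_sub, sub_add_sub_cancel] at h1
      inv_mem' := fun {a} ha j v hv => by
        have h1 := (Z j).neg_mem ((hmono j).2 a⁻¹ _ (ha j v hv))
        rwa [map_sub, ← Module.End.mul_apply, ← map_mul, inv_mul_cancel, map_one,
          Module.End.one_apply, neg_sub] at h1 }
  have hT : ∀ i, derivedSeries P i ≤ T (2 ^ i) := by
    intro i
    induction i with
    | zero =>
      intro g _ j v hv
      rw [pow_zero, hZ j, hnext] at hv
      exact hv g
    | succ i ih =>
      rw [derivedSeries_succ, Subgroup.commutator_le]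
      intro x hx y hy j v hv
      rw [pow_succ, mul_two, ← add_assoc] at hv
      set w := ρ (x⁻¹ * y⁻¹) v
      have hw : w ∈ Z (j + 2 ^ i + 2 ^ i) := (hmono _).2 _ v hv
      have h1 : ρ x (ρ y w - w) - (ρ y w - w) ∈ Z j :=
        ih hx j _ (ih hy (j + 2 ^ i) w hw)
      have h2 : ρ y (ρ x w - w) - (ρ x w - w) ∈ Z j :=
        ih hy j _ (ih hx (j + 2 ^ i) w hw)
      have h3 := (Z j).sub_mem h1 h2
      have e1 : ρ ⁅x, y⁆ v = ρ x (ρ y w) := by
        rw [← Module.End.mul_apply, ← Module.End.mul_apply, ← map_mul, ← map_mul,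
          commutatorElement_def]
        congr 2
        group
      have e2 : v = ρ y (ρ x w) := by
        rw [← Module.End.mul_apply, ← Module.End.mul_apply, ← map_mul, ← map_mul,
          show y * x * (x⁻¹ * y⁻¹) = 1 by group, map_one, Module.End.one_apply]
      rw [e1]
      conv => arg 2; arg 2; rw [e2]
      convert h3 using 1
      simp only [map_sub]
      abel
  rw [eq_bot_iff]
  intro g hg
  apply Subgroup.mem_bot.2
  apply hρ
  rw [map_one]
  refine LinearMap.ext fun v => ?_
  have hn : n ≤ 0 + 2 ^ (Nat.log 2 n + 1) := by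
    rw [zero_add]; exact (Nat.lt_pow_succ_log_self one_lt_two n).le
  have := hT _ hg 0 v ((htop _ hn).symm ▸ Submodule.mem_top)
  rw [show Z 0 = (⊥ : Submodule F V) from rfl, Submodule.mem_bot, sub_eq_zero] at this
  simpa using this

end Unipotent

end CfsgLib.DerivedLen
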