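import Mathlib

/-!
Derived length of iterated regular wreath products, from below, and transfer of a nontrivial term of
the derived series into a Sylow subgroup.
-/

set_option autoImplicit false

namespace CfsgLib.DerivedLen

open RegularWreathProduct
open scoped commutatorElement

universe u v

/-- Passing from `D` to a wreath product with a nontrivial group raises the derived length. -/
theorem wreath_succ {D : Type u} {Q : Type v} [Group D] [Group Q] [Nontrivial Q] {i : ℕ}
    (h : derivedSeries D i ≠ ⊥) : derivedSeries (RegularWreathProduct D Q) (i + 1) ≠ ⊥ := by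
  classical
  intro hbot
  let W := RegularWreathProduct D Q
  let M : Subgroup W := commutator W ⊓ (rightHom : W →* Q).ker
  have hM : ∀ m : M, (m : W).right = 1 := fun m => m.2.2
  let π : M →* D :=
    { toFun := fun m => (m : W).left 1
      map_one' := rfl
      map_mul' := fun a b => by
        show ((a : W) * (b : W)).left 1 = _
        rw [mul_left, hM a]
        simp }
  obtain ⟨q, hq⟩ := exists_ne (1 : Q)
  have hπ : Function.Surjective π := by
    intro d
    let f : RegularWreathProduct D Q := ⟨Pi.mulSingle 1 d, 1⟩
    refine ⟨⟨⁅f, (inl q : RegularWreathProduct D Q)⁆, ?_, ?_⟩, ?_⟩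
    · exact Subgroup.commutator_mem_commutator (Subgroup.mem_top _) (Subgroup.mem_top _)
    · show rightHom ⁅f, (inl q : RegularWreathProduct D Q)⁆ = 1
      have h1 : rightHom f = 1 := rfl
      rw [map_commutatorElement, h1, commutatorElement_one_left]
    · show (⁅f, (inl q : RegularWreathProduct D Q)⁆).left 1 = d
      rw [commutatorElement_def]
      show ((⟨Pi.mulSingle 1 d, 1⟩ : RegularWreathProduct D Q) * inl q *
        (⟨Pi.mulSingle 1 d, 1⟩ : RegularWreathProduct D Q)⁻¹ *
        (inl q : RegularWreathProduct D Q)⁻¹).1 1 = d
      simp [f, RegularWreathProduct.mul_def, RegularWreathProduct.inv_left,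
        RegularWreathProduct.inv_right, Pi.mulSingle_apply, hq]
  have hsub : ∀ j, (derivedSeries M j).map M.subtype ≤ derivedSeries W (j + 1) := by
    intro j
    induction j with
    | zero =>
      rw [derivedSeries_zero, ← MonoidHom.range_eq_map, Subgroup.range_subtype, derivedSeries_one]
      exact inf_le_left
    | succ j ih =>
      rw [derivedSeries_succ M j, derivedSeries_succ W (j + 1), Subgroup.map_commutator]
      exact Subgroup.commutator_mono ih ih
  have h2 : derivedSeries M i = ⊥ := by
    have h3 := hsub i
    rw [hbot, le_bot_iff, Subgroup.map_eq_bot_iff_of_injective _ M.subtype_injective] at h3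
    exact h3
  apply h
  rw [← map_derivedSeries_eq hπ i, h2, Subgroup.map_bot]

/-- The iterated wreath product of `k + 1` copies has derived length more than `k`. -/
theorem iterated (G : Type u) [Group G] [Nontrivial G] :
    ∀ k, derivedSeries (IteratedWreathProduct G (k + 1)) k ≠ ⊥ := by
  intro k
  induction k with
  | zero =>
    intro h
    obtain ⟨q, hq⟩ := exists_ne (1 : G)
    have h1 : (inl q : IteratedWreathProduct G 1) ∈ (⊥ : Subgroup (IteratedWreathProduct G 1)) := by
      rw [← h, derivedSeries_zero]; exact Subgroup.mem_top _
    exact hq (congrArg RegularWreathProduct.right (Subgroup.mem_bot.mp h1))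
  | succ k ih => exact wreath_succ ih

/-- A p-group inside `G` gives a lower bound for a Sylow p-subgroup. -/
theorem sylow_ne_bot {A : Type u} {G : Type v} [Group A] [Group G] [Finite G] {p : ℕ}
    [Fact p.Prime] (hA : IsPGroup p A) (f : A →* G) (hf : Function.Injective f) {i : ℕ}
    (h : derivedSeries A i ≠ ⊥) (P : Sylow p G) : derivedSeries ↥(P : Subgroup G) i ≠ ⊥ := by
  obtain ⟨P', hP'⟩ := (hA.of_surjective f.rangeRestrict f.rangeRestrict_surjective).exists_le_sylow
  intro hbot
  let e : ↥(P' : Subgroup G) ≃* ↥(P : Subgroup G) := P'.equiv P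
  let g : A →* ↥(P : Subgroup G) :=
    e.toMonoidHom.comp ((Subgroup.inclusion hP').comp f.rangeRestrict)
  have hg : Function.Injective g := e.injective.comp ((Subgroup.inclusion_injective hP').comp
    (fun a b hab => hf (congrArg Subtype.val hab)))
  have h1 := map_derivedSeries_le_derivedSeries g i
  rw [hbot, le_bot_iff, Subgroup.map_eq_bot_iff_of_injective _ hg] at h1
  exact h h1

end CfsgLib.DerivedLen
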